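import Groth.Agent.HomToAff.Tensor
import Groth.Agent.GrpScheme.QuasiAffine
import Groth.Agent.HomSch.Glue

/-!
# Morphisms from a quasi-compact scheme over a field to an affine one
-/

set_option autoImplicit false
set_option linter.style.haveILetI false
set_option backward.isDefEq.respectTransparency false

universe u

open CategoryTheory MonoidalCategory CartesianMonoidalCategory AlgebraicGeometry Limits

noncomputable section

namespace Groth.Agent.HomToAff

variable {k : Type u} [Field k] (X : Over (Spec (CommRingCat.of k)))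

/-- The spectrum of the global functions. -/
def hull : Over (Spec (CommRingCat.of k)) :=
  Over.mk (Spec.map ((Scheme.ΓSpecIso (CommRingCat.of k)).inv ≫ X.hom.appTop))

instance : IsAffine (hull X).left := inferInstanceAs (IsAffine (Spec Γ(X.left, ⊤)))

/-- The canonical map to the spectrum of the global functions. -/
def toHull : X ⟶ hull X :=
  Over.homMk X.left.toSpecΓ (by
    simp only [hull, Over.mk_hom]
    rw [Spec.map_comp, ← Scheme.toSpecΓ_naturality_assoc, toSpecΓ_SpecMap_ΓSpecIso_inv,
      Category.comp_id])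

instance [CompactSpace X.left] : IsIso (toHull X).left.appTop := by
  show IsIso X.left.toSpecΓ.appTop
  rw [Scheme.toSpecΓ_appTop]
  infer_instance

theorem isPushout_tensor (T : Over (Spec (CommRingCat.of k))) [CompactSpace X.left] [IsAffine T.left] :
    IsPushout X.hom.appTop T.hom.appTop (fst X T).left.appTop (snd X T).left.appTop := by
  have H : IsPullback (fst X T).left (snd X T).left X.hom T.hom := IsPullback.of_hasPullback X.hom T.hom
  have hS : IsField Γ(Spec (CommRingCat.of k), ⊤) :=
    (Scheme.ΓSpecIso (CommRingCat.of k)).commRingCatIsoToRingEquiv.toMulEquiv.isField (Field.toIsField k)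
  have := isIso_pushoutSection_of_isField H (US := ⊤) (UT := ⊤) (UX := ⊤) (le_refl _) (UY := ⊤) (by simp) (le_refl _) hS
    (isAffineOpen_top _) (isAffineOpen_top _) isCompact_univ
  have h := (isIso_pushoutSection_iff H (US := ⊤) (UT := ⊤) (UX := ⊤) (UY := ⊤) (le_refl _) (le_refl _) (by simp)).1 this
  have e : ∀ {A B : Scheme.{u}} (f : A ⟶ B), f.appLE ⊤ ⊤ le_rfl = f.appTop := fun f => f.appLE_eq_app
  rwa [e, e, e, e] at h

theorem isIso_appTop_whiskerRight (T : Over (Spec (CommRingCat.of k))) [CompactSpace X.left] [IsAffine T.left] :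
    IsIso (toHull X ▷ T).left.appTop := by
  let a := toHull X
  have hX := isPushout_tensor X T
  have hX' : IsPushout X.hom.appTop T.hom.appTop (inv a.left.appTop ≫ (fst (hull X) T).left.appTop)
      ((snd (hull X) T).left.appTop) := by
    refine (isPushout_tensor (hull X) T).of_iso (Iso.refl _) (asIso a.left.appTop)
      (Iso.refl _) (Iso.refl _) ?_ ?_ (by simp) (by simp) <;>
      simp only [Iso.refl_hom, Category.id_comp, Category.comp_id, asIso_hom, ← Scheme.Hom.comp_appTop, Over.w]
  have : (a ▷ T).left.appTop = (hX'.isoIsPushout _ _ hX).hom := by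
    apply hX'.hom_ext
    · rw [IsPushout.inl_isoIsPushout_hom, Category.assoc, IsIso.inv_comp_eq,
        ← Scheme.Hom.comp_appTop, ← Scheme.Hom.comp_appTop, ← Over.comp_left, ← Over.comp_left,
        whiskerRight_fst]
    · rw [IsPushout.inr_isoIsPushout_hom, ← Scheme.Hom.comp_appTop, ← Over.comp_left, whiskerRight_snd]
  rw [this]
  infer_instance

variable {X} [CompactSpace X.left] {Z : Over (Spec (CommRingCat.of k))} [IsAffine Z.left]

theorem exists_open_affine {T : Over (Spec (CommRingCat.of k))} (z : T.left) :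
    ∃ (U : Over (Spec (CommRingCat.of k))) (j : U ⟶ T),
      IsOpenImmersion j.left ∧ z ∈ Set.range j.left.base ∧ IsAffine U.left := by
  obtain ⟨W, hW, hz, -⟩ := exists_isAffineOpen_mem_and_subset (X := T.left) (x := z) (U := ⊤) trivial
  exact ⟨Over.mk (W.ι ≫ T.hom), Over.homMk W.ι rfl, inferInstanceAs (IsOpenImmersion W.ι), ⟨⟨z, hz⟩, rfl⟩, hW⟩

theorem hom_ext (T : Over (Spec (CommRingCat.of k))) {f g : hull X ⊗ T ⟶ Z}
    (h : (toHull X ▷ T) ≫ f = (toHull X ▷ T) ≫ g) : f = g := by
  refine HomSch.hom_ext_snd _ _ fun z => ?_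
  obtain ⟨U, j, hj, hz, hU⟩ := exists_open_affine z
  refine ⟨U, j, hj, hz, ?_⟩
  haveI := isIso_appTop_whiskerRight X U
  refine GrpScheme.QuasiAffine.hom_ext (toHull X ▷ U) ?_
  rw [← whisker_exchange_assoc, ← whisker_exchange_assoc, h]

theorem exists_extend (T : Over (Spec (CommRingCat.of k))) (f : X ⊗ T ⟶ Z) :
    ∃ F : hull X ⊗ T ⟶ Z, (toHull X ▷ T) ≫ F = f := by
  choose U j hj hz hU using fun z : T.left => exists_open_affine z
  haveI := hj
  have hiso : ∀ z, IsIso (toHull X ▷ U z).left.appTop := fun z => by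
    haveI := hU z
    exact isIso_appTop_whiskerRight X (U z)
  haveI := hiso
  let F : ∀ z, hull X ⊗ U z ⟶ Z := fun z => GrpScheme.QuasiAffine.extend (toHull X ▷ U z) ((X ◁ j z) ≫ f)
  have hF : ∀ z, (toHull X ▷ U z) ≫ F z = (X ◁ j z) ≫ f := fun z => GrpScheme.QuasiAffine.comp_extend _ _
  obtain ⟨G, hG⟩ := HomSch.exists_glue_snd U j (fun z => ⟨z, hz z⟩) F (fun a b Q p q hpq => hom_ext Q (by
    rw [← whisker_exchange_assoc, ← whisker_exchange_assoc, hF, hF, ← whiskerLeft_comp_assoc,
      ← whiskerLeft_comp_assoc, hpq]))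
  refine ⟨G, HomSch.hom_ext_snd _ _ fun z => ⟨U z, j z, hj z, hz z, ?_⟩⟩
  rw [whisker_exchange_assoc, hG, hF]

/-- The scheme of morphisms to an affine scheme from a quasi-compact scheme with finite global functions. -/
theorem exists_homToAffine (hfin : (X.hom.appTop.hom.comp (Scheme.ΓSpecIso (CommRingCat.of k)).inv.hom).Finite) :
    ∃ (M : Over (Spec (CommRingCat.of k))) (_ : IsAffine M.left) (ev : X ⊗ M ⟶ Z),
      (∀ (S : Over (Spec (CommRingCat.of k))) (f : X ⊗ S ⟶ Z), ∃! g : S ⟶ M, (X ◁ g) ≫ ev = f) ∧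
      (LocallyOfFiniteType Z.hom → LocallyOfFiniteType M.hom) := by
  haveI : IsFinite (hull X).hom := by
    show IsFinite (Spec.map _)
    rw [IsFinite.SpecMap_iff]
    exact hfin
  obtain ⟨M, ev, hM, hlft, -, huniv⟩ := HomSch.exists_homScheme (hull X) Z
  haveI : IsAffine M.left := isAffine_of_isAffineHom M.hom
  refine ⟨M, inferInstance, (toHull X ▷ M) ≫ ev, fun T f => ?_, hlft⟩
  obtain ⟨F, hF⟩ := exists_extend T f
  obtain ⟨g, hg, hu⟩ := huniv T F
  refine ⟨g, ?_, fun g' hg' => hu g' (hom_ext T ?_)⟩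
  · show (X ◁ g) ≫ (toHull X ▷ M) ≫ ev = f
    rw [whisker_exchange_assoc, hg, hF]
  · rw [← whisker_exchange_assoc, hF]
    exact hg'

end Groth.Agent.HomToAff
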