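import Mathlib

/-!
# Sections of products over a field

For a quasi-compact scheme `X` over a field and an affine scheme, the sections of the product are the tensor product
of the sections (no separation hypothesis).
-/

set_option autoImplicit false
set_option linter.style.haveILetI false
set_option backward.isDefEq.respectTransparency false

universe u

open CategoryTheory Limits AlgebraicGeometry TopologicalSpace TensorProduct

namespace Groth.Agent.HomToAff

variable {X Y S T : Scheme.{u}} {f : T ⟶ S} {g : Y ⟶ X} {iX : X ⟶ S} {iY : Y ⟶ T}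
  (H : IsPullback g iY iX f) {US : S.Opens} {UT : T.Opens} (hUST : UT ≤ f ⁻¹ᵁ US)

/-- Over a field, the map from the tensor product of sections is injective on every open. -/
theorem mono_pushoutSection_of_isField {U : X.Opens} (hUSX : U ≤ iX ⁻¹ᵁ US) (hS : IsField Γ(S, US))
    (hUS : IsAffineOpen US) (hUT : IsAffineOpen UT) :
    Mono (pushoutSection H hUST hUSX (UY := g ⁻¹ᵁ U ⊓ iY ⁻¹ᵁ UT) rfl) := by
  classical
  let V := fun W : {W : X.affineOpens // W.1 ≤ U} => W.1.1
  algebraize [(iX.appLE US U hUSX).hom, (f.appLE US UT hUST).hom]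
  letI := hS.toField
  haveI : Module.Free Γ(S, US) Γ(T, UT) := Module.Free.of_divisionRing Γ(S, US) Γ(T, UT)
  let b := Module.Free.chooseBasis Γ(S, US) Γ(T, UT)
  let e := (CommRingCat.isPushout_tensorProduct Γ(S, US) Γ(T, UT) Γ(X, U)).flip.isoPushout
  apply ConcreteCategory.mono_of_injective
  rw [injective_iff_map_eq_zero]
  intro z hz
  obtain ⟨w, rfl⟩ := e.commRingCatIsoToRingEquiv.surjective z
  suffices w = 0 by rw [this, map_zero]
  obtain ⟨c, rfl⟩ := (TensorProduct.equivFinsuppOfBasisLeft b).symm.surjective w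
  suffices c = 0 by rw [this, map_zero]
  ext i
  rw [Finsupp.zero_apply]
  refine X.IsSheaf.section_ext fun x hx => ?_
  obtain ⟨W, hW, hxW, hWU⟩ := exists_isAffineOpen_mem_and_subset hx
  have hWS : W ≤ iX ⁻¹ᵁ US := le_trans hWU hUSX
  refine ⟨W, hWU, hxW, ?_⟩
  letI algW : Algebra Γ(S, US) Γ(X, W) := (iX.appLE US W hWS).hom.toAlgebra
  let res : Γ(X, U) →ₐ[Γ(S, US)] Γ(X, W) :=
    ⟨(X.presheaf.map (homOfLE hWU).op).hom, fun r => by
      dsimp [RingHom.algebraMap_toAlgebra]
      simp only [← CommRingCat.comp_apply, Scheme.Hom.appLE_map]⟩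
  let eW := (CommRingCat.isPushout_tensorProduct Γ(S, US) Γ(T, UT) Γ(X, W)).flip.isoPushout
  let resY := Y.presheaf.map (homOfLE (show g ⁻¹ᵁ W ⊓ iY ⁻¹ᵁ UT ≤ g ⁻¹ᵁ U ⊓ iY ⁻¹ᵁ UT from
    inf_le_inf_right _ (Scheme.Hom.preimage_mono g hWU))).op
  haveI : IsIso (pushoutSection H hUST hWS (UY := g ⁻¹ᵁ W ⊓ iY ⁻¹ᵁ UT) rfl) :=
    isIso_pushoutSection_of_isAffineOpen H hUST hWS rfl hUS hUT hW
  have key : e.hom ≫ pushoutSection H hUST hUSX rfl ≫ resY =
      CommRingCat.ofHom (Algebra.TensorProduct.map (AlgHom.id Γ(S, US) Γ(T, UT)) res).toRingHom ≫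
        eW.hom ≫ pushoutSection H hUST hWS rfl := by
    apply (CommRingCat.isPushout_tensorProduct Γ(S, US) Γ(T, UT) Γ(X, U)).flip.hom_ext
    · rw [IsPushout.inl_isoPushout_hom_assoc, pushout.inl_desc_assoc, Scheme.Hom.appLE_map]
      have : CommRingCat.ofHom (Algebra.TensorProduct.includeRight (R := Γ(S, US)) (A := Γ(T, UT)) (B := Γ(X, U))).toRingHom ≫
          CommRingCat.ofHom (Algebra.TensorProduct.map (AlgHom.id Γ(S, US) Γ(T, UT)) res).toRingHom =
          X.presheaf.map (homOfLE hWU).op ≫ CommRingCat.ofHom (Algebra.TensorProduct.includeRight (R := Γ(S, US)) (A := Γ(T, UT)) (B := Γ(X, W))).toRingHom := by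
        ext x; simp [res]
      rw [reassoc_of% this, IsPushout.inl_isoPushout_hom_assoc, pushout.inl_desc, Scheme.Hom.map_appLE]
    · rw [IsPushout.inr_isoPushout_hom_assoc, pushout.inr_desc_assoc, Scheme.Hom.appLE_map]
      have : CommRingCat.ofHom (Algebra.TensorProduct.includeLeftRingHom (R := Γ(S, US)) (A := Γ(T, UT)) (B := Γ(X, U))) ≫
          CommRingCat.ofHom (Algebra.TensorProduct.map (AlgHom.id Γ(S, US) Γ(T, UT)) res).toRingHom =
          CommRingCat.ofHom (Algebra.TensorProduct.includeLeftRingHom (R := Γ(S, US)) (A := Γ(T, UT)) (B := Γ(X, W))) := by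
        ext x; simp
      rw [reassoc_of% this, IsPushout.inr_isoPushout_hom_assoc, pushout.inr_desc]
  have h0 : Algebra.TensorProduct.map (AlgHom.id Γ(S, US) Γ(T, UT)) res
      ((TensorProduct.equivFinsuppOfBasisLeft b).symm c) = 0 := by
    have h := congr($key ((TensorProduct.equivFinsuppOfBasisLeft b).symm c))
    have hz' : pushoutSection H hUST hUSX rfl (e.hom ((TensorProduct.equivFinsuppOfBasisLeft b).symm c)) = 0 := hz
    have h2 := congrArg resY hz'
    have hi := (ConcreteCategory.injective_of_mono_of_preservesPullback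
      (eW.hom ≫ pushoutSection H hUST hWS (UY := g ⁻¹ᵁ W ⊓ iY ⁻¹ᵁ UT) rfl))
    refine hi ?_
    rw [map_zero]
    exact (h.symm.trans h2).trans (map_zero _)
  have h1 : (TensorProduct.equivFinsuppOfBasisLeft b).symm (c.mapRange res (map_zero res)) =
      (0 : Γ(T, UT) ⊗[Γ(S, US)] Γ(X, W)) := by
    refine Eq.trans ?_ h0
    simp only [TensorProduct.equivFinsuppOfBasisLeft_symm_apply]
    rw [Finsupp.sum_mapRange_index (by simp)]
    simp only [Finsupp.sum, map_sum, Algebra.TensorProduct.map_tmul, AlgHom.id_apply]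
  rw [map_eq_zero_iff _ (LinearEquiv.injective _)] at h1
  have := DFunLike.congr_fun h1 i
  simp only [Finsupp.mapRange_apply, Finsupp.zero_apply] at this
  rw [map_zero]
  exact this

/-- Over a field, sections on a quasi-compact open times an affine open form a tensor product. -/
theorem isIso_pushoutSection_of_isField {UX : X.Opens} {UY : Y.Opens} (hUY : UY = g ⁻¹ᵁ UX ⊓ iY ⁻¹ᵁ UT) (hUSX : UX ≤ iX ⁻¹ᵁ US) (hS : IsField Γ(S, US))
    (hUS : IsAffineOpen US) (hUT : IsAffineOpen UT) (hUX : IsCompact (UX : Set X)) :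
    IsIso (pushoutSection H hUST hUSX hUY) := by
  subst hUY
  obtain ⟨s, hs, hUs⟩ := isCompact_iff_finite_and_eq_biUnion_affineOpens.mp hUX
  haveI := hs.to_subtype
  have hV : (⨆ i : s, (i.1.1 : X.Opens)) = UX := by rwa [iSup_subtype, eq_comm]
  exact isIso_pushoutSection_of_iSup_eq H hUST hUSX rfl (fun i : s => i.1.1) hV
    (fun i => isIso_pushoutSection_of_isAffineOpen H hUST _ rfl hUS hUT i.1.2)
    (fun i j => mono_pushoutSection_of_isField H hUST _ hS hUS hUT)
    (RingHom.Flat.of_isField hS _)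

end Groth.Agent.HomToAff
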